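import Mathlib
import Groth.Agent.Lib.Helper5.EtPoly.A
import Groth.Agent.Lib.Helper1.DimFormula3

set_option autoImplicit false
universe u

open TensorProduct IsLocalRing KaehlerDifferential

namespace Groth.Agent.H5.EtPrime

section gen
variable (k : Type u) [Field k] (n : ℕ) (B : Type u) [CommRing B] [Algebra k B]
  [Algebra (MvPolynomial (Fin n) k) B] [IsScalarTower k (MvPolynomial (Fin n) k) B]

local notation "P" => MvPolynomial (Fin n) k

/-- the differentials of the coordinate functions. -/
noncomputable def dx (i : Fin n) : Ω[B⁄k] := D k B (algebraMap P B (MvPolynomial.X i))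

theorem range_map_le_span (ω : Ω[P⁄k]) :
    KaehlerDifferential.map k k P B ω ∈ Submodule.span B (Set.range (dx k n B)) := by
  have hω : ω ∈ Submodule.span P (Set.range (KaehlerDifferential.mvPolynomialBasis k (Fin n))) := by
    rw [Module.Basis.span_eq]; trivial
  induction hω using Submodule.span_induction with
  | mem y hy =>
    obtain ⟨i, rfl⟩ := hy
    rw [KaehlerDifferential.mvPolynomialBasis_apply, KaehlerDifferential.map_D]
    exact Submodule.subset_span ⟨i, rfl⟩
  | zero => simp
  | add y z _ _ hy hz => rw [map_add]; exact add_mem hy hz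
  | smul c y _ hy =>
    rw [map_smul, ← algebraMap_smul B c]
    exact Submodule.smul_mem _ _ hy

theorem formallyUnramified_iff_span :
    Algebra.FormallyUnramified P B ↔ Submodule.span B (Set.range (dx k n B)) = ⊤ := by
  rw [Algebra.formallyUnramified_iff]
  constructor
  · intro h
    rw [eq_top_iff]
    rintro ω -
    have hex := KaehlerDifferential.exact_mapBaseChange_map k P B
    obtain ⟨y, rfl⟩ := (hex ω).mp (Subsingleton.elim _ _)
    induction y using TensorProduct.induction_on with
    | zero => simp
    | add x y hx hy => rw [map_add]; exact add_mem hx hy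
    | tmul a ω' =>
      rw [KaehlerDifferential.mapBaseChange_tmul]
      exact Submodule.smul_mem _ _ (range_map_le_span k n B ω')
  · intro h
    refine ⟨fun a b => ?_⟩
    suffices ∀ ω' : Ω[B⁄P], ω' = 0 by rw [this a, this b]
    intro ω'
    obtain ⟨ω, rfl⟩ := KaehlerDifferential.map_surjective k P B ω'
    have hω : ω ∈ Submodule.span B (Set.range (dx k n B)) := h ▸ Submodule.mem_top
    induction hω using Submodule.span_induction with
    | mem y hy =>
      obtain ⟨i, rfl⟩ := hy
      rw [dx, KaehlerDifferential.map_D]
      simp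
    | zero => simp
    | add y z _ _ hy hz => rw [map_add, hy, hz, add_zero]
    | smul c y _ hy => rw [map_smul, hy, smul_zero]

/-- if the `dx i` span `Ω`, the fibre over any field `κ` has dimension `≤ n`. -/
theorem finrank_fibre_le (κ : Type u) [Field κ] [Algebra B κ]
    (hspan : Submodule.span B (Set.range (dx k n B)) = ⊤) :
    Module.finrank κ (κ ⊗[B] Ω[B⁄k]) ≤ n := by
  have key : ∀ ω : Ω[B⁄k], (1 : κ) ⊗ₜ[B] ω ∈ Submodule.span κ
      (Set.range fun i : Fin n => (1 : κ) ⊗ₜ[B] dx k n B i) := by
    intro ω
    have hω : ω ∈ Submodule.span B (Set.range (dx k n B)) := hspan ▸ Submodule.mem_top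
    induction hω using Submodule.span_induction with
    | mem y hy =>
      obtain ⟨i, rfl⟩ := hy
      exact Submodule.subset_span ⟨i, rfl⟩
    | zero => simp
    | add y z _ _ hy hz => rw [TensorProduct.tmul_add]; exact add_mem hy hz
    | smul c y _ hy =>
      have : (1 : κ) ⊗ₜ[B] (c • y) =
          algebraMap B κ c • ((1 : κ) ⊗ₜ[B] y) := by
        rw [TensorProduct.tmul_smul, algebraMap_smul]
      rw [this]
      exact Submodule.smul_mem _ _ hy
  have hsp : Submodule.span κ
      (Set.range fun i : Fin n => (1 : κ) ⊗ₜ[B] dx k n B i) = ⊤ := by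
    rw [eq_top_iff]
    rintro y -
    induction y using TensorProduct.induction_on with
    | zero => exact zero_mem _
    | add x y hx hy => exact add_mem hx hy
    | tmul a ω =>
      have : a ⊗ₜ[B] ω = a • ((1 : κ) ⊗ₜ[B] ω) := by
        rw [TensorProduct.smul_tmul', smul_eq_mul, mul_one]
      rw [this]
      exact Submodule.smul_mem _ _ (key ω)
  have := finrank_le_of_span_eq_top hsp
  simpa using this

end gen

section main
variable (k A : Type u) [Field k] [CommRing A] [Algebra k A] [Algebra.FiniteType k A] (n : ℕ)
  [Algebra (MvPolynomial (Fin n) k) A] [IsScalarTower k (MvPolynomial (Fin n) k) A]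
  (p : Ideal A) [p.IsPrime]

local notation "P" => MvPolynomial (Fin n) k

include k in
/-- there is a maximal ideal above `p` in any open neighbourhood of `p`. -/
theorem exists_maximal_mem (U : Set (PrimeSpectrum A)) (hU : IsOpen U)
    (hp : (⟨p, inferInstance⟩ : PrimeSpectrum A) ∈ U) :
    ∃ m : Ideal A, ∃ hm : m.IsMaximal, p ≤ m ∧ (⟨m, hm.isPrime'⟩ : PrimeSpectrum A) ∈ U := by
  haveI : IsJacobsonRing A := isJacobsonRing_of_finiteType (A := k)
  obtain ⟨q, ⟨hqU, hqp⟩, hqc⟩ := nonempty_inter_closedPoints
    (Z := U ∩ PrimeSpectrum.zeroLocus (p : Set A))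
    ⟨⟨p, inferInstance⟩, hp, by simp⟩
    (hU.isLocallyClosed.inter (PrimeSpectrum.isClosed_zeroLocus _).isLocallyClosed)
  have hqmax : q.asIdeal.IsMaximal :=
    (PrimeSpectrum.isClosed_singleton_iff_isMaximal q).mp hqc
  have hpq : p ≤ q.asIdeal := by
    simpa [PrimeSpectrum.mem_zeroLocus] using hqp
  exact ⟨q.asIdeal, hqmax, hpq, hqU⟩

/-- unramified over the polynomial ring at `p` plus the right local dimension implies smooth over `k`
at `p`. -/
theorem formallySmooth_of_unramified
    (hn : FlatMor.localDim (PrimeSpectrum A) ⟨p, inferInstance⟩ = (n : WithBot ℕ∞))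
    [hunr : Algebra.FormallyUnramified P (Localization.AtPrime p)] :
    Algebra.FormallySmooth k (Localization.AtPrime p) := by
  haveI : Algebra.FiniteType P A := Algebra.FiniteType.of_restrictScalars_finiteType k P A
  haveI : Algebra.FinitePresentation k A := Algebra.FinitePresentation.of_finiteType.mp inferInstance
  have hpU : (⟨p, inferInstance⟩ : PrimeSpectrum A) ∈ Algebra.unramifiedLocus P A := hunr
  obtain ⟨m, hm, hpm, hmU⟩ := exists_maximal_mem k A p _ Algebra.isOpen_unramifiedLocus hpU
  haveI := hm
  haveI : Algebra.FormallyUnramified P (Localization.AtPrime m) := hmU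
  have hspan := (formallyUnramified_iff_span k n (Localization.AtPrime m)).mp inferInstance
  have hle := finrank_fibre_le k n (Localization.AtPrime m) (ResidueField (Localization.AtPrime m)) hspan
  have hdim : (n : WithBot ℕ∞) ≤ ringKrullDim (Localization.AtPrime m) := by
    rw [← hn, Groth.Agent.H1.DimFormula.localDim_primeSpectrum_eq_iInf (k := k) p]
    exact iInf_le (fun m : {m : Ideal A // m.IsMaximal ∧ p ≤ m} =>
      ringKrullDim (Localization.AtPrime (hp := m.2.1.isPrime') m.1)) ⟨m, hm, hpm⟩
  have hFS : Algebra.FormallySmooth k (Localization.AtPrime m) := by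
    apply Groth.Agent.H5.JacDim.formallySmooth_localization_of_dim k A m
    rw [(Groth.Agent.H5.SmTower.e₂ k A m).finrank_eq]
    refine le_trans ?_ hdim
    exact_mod_cast hle
  have hmS : (⟨m, inferInstance⟩ : PrimeSpectrum A) ∈ Algebra.smoothLocus k A := hFS
  have hsp : (⟨p, inferInstance⟩ : PrimeSpectrum A) ⤳ ⟨m, inferInstance⟩ :=
    (PrimeSpectrum.le_iff_specializes _ _).mp hpm
  exact hsp.mem_open Algebra.isOpen_smoothLocus hmS

theorem finrank_kaehler_mvPolynomial : Module.finrank P Ω[P⁄k] = n := by
  rw [Module.finrank_eq_card_basis (KaehlerDifferential.mvPolynomialBasis k (Fin n)),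
    Fintype.card_fin]

/-- the local dimension hypothesis, unpacked. -/
theorem exists_dim_add_trdeg
    (hn : FlatMor.localDim (PrimeSpectrum A) ⟨p, inferInstance⟩ = (n : WithBot ℕ∞)) :
    ∃ nd r : ℕ, ringKrullDim (Localization.AtPrime p) = nd ∧
      Algebra.trdeg k p.ResidueField = r ∧ n = nd + r := by
  haveI : IsNoetherianRing A := Algebra.FiniteType.isNoetherianRing k A
  haveI : IsNoetherianRing (Localization.AtPrime p) :=
    IsLocalization.isNoetherianRing p.primeCompl _ inferInstance
  obtain ⟨nd, hnd⟩ := Groth.Agent.H5.JacDim.exists_nat_ringKrullDim (Localization.AtPrime p)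
  obtain ⟨r, hr, -, h⟩ := Groth.Agent.H1.DimFormula.localDim_primeSpectrum (k := k) p
  refine ⟨nd, r, hnd, hr, ?_⟩
  rw [hn, hnd] at h
  exact_mod_cast h

/-- étale at `p` over the polynomial ring iff unramified at `p`, when the local dimension is `n`. -/
theorem formallyEtale_iff_formallyUnramified
    (hn : FlatMor.localDim (PrimeSpectrum A) ⟨p, inferInstance⟩ = (n : WithBot ℕ∞)) :
    Algebra.FormallyEtale P (Localization.AtPrime p) ↔
      Algebra.FormallyUnramified P (Localization.AtPrime p) := by
  constructor
  · intro h
    exact (Algebra.FormallyEtale.iff_formallyUnramified_and_formallySmooth.mp h).1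
  · intro hunr
    haveI := hunr
    haveI hFSk : Algebra.FormallySmooth k (Localization.AtPrime p) :=
      formallySmooth_of_unramified k A n p hn
    refine Algebra.FormallyEtale.iff_formallyUnramified_and_formallySmooth.mpr ⟨hunr, ?_⟩
    haveI : IsNoetherianRing A := Algebra.FiniteType.isNoetherianRing k A
    haveI : IsNoetherianRing (Localization.AtPrime p) :=
      IsLocalization.isNoetherianRing p.primeCompl _ inferInstance
    obtain ⟨nd, r, hnd, hr, hnr⟩ := exists_dim_add_trdeg k A n p hn
    have h1 := Groth.Agent.H5.EtPoly.finrank_fibre_of_formallySmooth k A p nd hnd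
    rw [hr, Cardinal.toNat_natCast, ← hnr] at h1
    haveI : Algebra.EssFiniteType A (Localization.AtPrime p) :=
      Algebra.EssFiniteType.of_isLocalization _ p.primeCompl
    haveI : Algebra.EssFiniteType k (Localization.AtPrime p) :=
      Algebra.EssFiniteType.comp k A _
    haveI : Module.Finite (Localization.AtPrime p) Ω[Localization.AtPrime p⁄k] := inferInstance
    haveI : Module.Projective (Localization.AtPrime p) Ω[Localization.AtPrime p⁄k] := inferInstance
    haveI : Module.Free (Localization.AtPrime p) Ω[Localization.AtPrime p⁄k] :=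
      Module.free_of_flat_of_isLocalRing
    rw [Groth.Agent.H5.SmTower.local_criterion k P (Localization.AtPrime p)]
    have hsurj : Function.Surjective
        (KaehlerDifferential.mapBaseChange k P (Localization.AtPrime p)) := by
      have hex := KaehlerDifferential.exact_mapBaseChange_map k P (Localization.AtPrime p)
      intro y
      exact (hex y).mp (Subsingleton.elim _ _)
    have hsurj' : Function.Surjective ((KaehlerDifferential.mapBaseChange k P
        (Localization.AtPrime p)).baseChange (ResidueField (Localization.AtPrime p))) :=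
      LinearMap.lTensor_surjective _ hsurj
    have hfr1 : Module.finrank (ResidueField (Localization.AtPrime p))
        (ResidueField (Localization.AtPrime p) ⊗[Localization.AtPrime p]
          (Localization.AtPrime p ⊗[P] Ω[P⁄k])) = n := by
      rw [Module.finrank_baseChange, Module.finrank_baseChange, finrank_kaehler_mvPolynomial]
    have hfr2 : Module.finrank (ResidueField (Localization.AtPrime p))
        (ResidueField (Localization.AtPrime p) ⊗[Localization.AtPrime p]
          Ω[Localization.AtPrime p⁄k]) = n := by
      rw [← (Groth.Agent.H5.SmTower.e₂ k A p).finrank_eq]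
      exact h1
    exact (LinearMap.injective_iff_surjective_of_finrank_eq_finrank
      (hfr1.trans hfr2.symm)).mpr hsurj'

theorem dx_eq : (fun i : Fin n => KaehlerDifferential.D k (Localization.AtPrime p)
      (algebraMap A (Localization.AtPrime p) (algebraMap P A (MvPolynomial.X i)))) =
    dx k n (Localization.AtPrime p) := by
  funext i
  rw [dx, IsScalarTower.algebraMap_apply P A (Localization.AtPrime p)]

theorem main2790
    (hn : FlatMor.localDim (PrimeSpectrum A) ⟨p, inferInstance⟩ = (n : WithBot ℕ∞)) :
    Algebra.IsEtaleAt P p ↔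
      Submodule.span (Localization.AtPrime p)
        (Set.range fun i : Fin n => KaehlerDifferential.D k (Localization.AtPrime p)
          (algebraMap A (Localization.AtPrime p) (algebraMap P A (MvPolynomial.X i)))) = ⊤ := by
  rw [dx_eq, ← formallyUnramified_iff_span]
  exact formallyEtale_iff_formallyUnramified k A n p hn

end main

end Groth.Agent.H5.EtPrime
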