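import Mathlib
import Groth.Agent.Lib.Helper5.EtPrime.A

set_option autoImplicit false
universe u

open TensorProduct IsLocalRing KaehlerDifferential

namespace Groth.Agent.H5.EtPrime

section loc
variable (k : Type u) [Field k] (S : Type u) [CommRing S] [IsLocalRing S] [Algebra k S]

/-- Nakayama: a family spans a finite module over a local ring iff it spans the fibre. -/
theorem span_eq_top_iff_local (M : Type*) [AddCommGroup M] [Module S M] [Module.Finite S M]
    {ι : Type*} (v : ι → M) :
    Submodule.span S (Set.range v) = ⊤ ↔
      Submodule.span (ResidueField S)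
        (Set.range fun i => (1 : ResidueField S) ⊗ₜ[S] v i) = ⊤ := by
  rw [← IsLocalRing.map_tensorProduct_mk_eq_top, Submodule.map_span,
    ← Submodule.restrictScalars_span S (ResidueField S) Ideal.Quotient.mk_surjective,
    Submodule.restrictScalars_eq_top_iff, ← Set.range_comp]
  rfl

theorem mapBaseChange_one_tmul_D (y : S) :
    KaehlerDifferential.mapBaseChange k S (ResidueField S) ((1 : ResidueField S) ⊗ₜ[S] D k S y) =
      D k (ResidueField S) (residue S y) := by
  rw [KaehlerDifferential.mapBaseChange_tmul, one_smul, KaehlerDifferential.map_D]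
  rfl

theorem ker_mapBaseChange_le :
    LinearMap.ker (KaehlerDifferential.mapBaseChange k S (ResidueField S)) ≤
      Submodule.span (ResidueField S)
        ((fun y : S => (1 : ResidueField S) ⊗ₜ[S] D k S y) '' (maximalIdeal S : Set S)) := by
  intro x hx
  have hex := KaehlerDifferential.exact_kerCotangentToTensor_mapBaseChange k S (ResidueField S)
    Ideal.Quotient.mk_surjective
  obtain ⟨c, rfl⟩ := (hex x).mp hx
  obtain ⟨y, rfl⟩ := Ideal.toCotangent_surjective _ c
  rw [KaehlerDifferential.kerCotangentToTensor_toCotangent]
  refine Submodule.subset_span ⟨y.1, ?_, rfl⟩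
  have := y.2
  rw [RingHom.mem_ker] at this
  exact (residue_eq_zero_iff _).mp this

/-- the map `m/m² → κ ⊗ Ω_S`, as a linear map over the residue field. -/
noncomputable def δ : CotangentSpace S →ₗ[ResidueField S] (ResidueField S) ⊗[S] Ω[S⁄k] :=
  LinearMap.extendScalarsOfSurjective (Ideal.Quotient.mk_surjective (I := maximalIdeal S))
    ((KaehlerDifferential.kerCotangentToTensor k S (ResidueField S)).comp
      (Ideal.mapCotangent (maximalIdeal S) (RingHom.ker (algebraMap S (ResidueField S)))
        (AlgHom.id S S) (fun y hy => by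
          rw [Ideal.mem_comap, RingHom.mem_ker]
          exact (residue_eq_zero_iff _).mpr hy)))

theorem δ_toCotangent (y : maximalIdeal S) :
    δ k S ((maximalIdeal S).toCotangent y) = (1 : ResidueField S) ⊗ₜ[S] D k S y.1 := rfl

end loc

theorem card_lt (n r : ℕ) (hrn : r ≤ n) : Fintype.card {i : Fin n // (i : ℕ) < r} = r := by
  rw [Fintype.card_subtype, Fin.card_filter_val_lt]
  exact min_eq_right hrn

section main
variable (k A : Type u) [Field k] [CommRing A] [Algebra k A] [Algebra.FiniteType k A] (n r : ℕ)
  [Algebra (MvPolynomial (Fin n) k) A] [IsScalarTower k (MvPolynomial (Fin n) k) A]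
  (p : Ideal A) [p.IsPrime]

local notation "P" => MvPolynomial (Fin n) k
local notation "S" => Localization.AtPrime p

/-- the images of the variables in the local ring. -/
noncomputable def g' (i : Fin n) : S := algebraMap A S (algebraMap P A (MvPolynomial.X i))

/-- the classes of the differentials in the fibre. -/
noncomputable def e (i : Fin n) : p.ResidueField ⊗[S] Ω[S⁄k] :=
  (1 : p.ResidueField) ⊗ₜ[S] D k S (g' k A n p i)

theorem g'_eq : g' k A n p = fun i => algebraMap P S (MvPolynomial.X i) := by
  funext i
  rw [g', ← IsScalarTower.algebraMap_apply P A S]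

include k in
theorem finite_kaehler : Module.Finite S Ω[S⁄k] := by
  haveI : Algebra.EssFiniteType A S := Algebra.EssFiniteType.of_isLocalization _ p.primeCompl
  haveI : Algebra.EssFiniteType k S := Algebra.EssFiniteType.comp k A _
  infer_instance

/-- the differentials span `Ω_S` iff their classes span the fibre. -/
theorem span_dx_iff :
    Submodule.span S (Set.range (dx k n S)) = ⊤ ↔
      Submodule.span p.ResidueField (Set.range (e k A n p)) = ⊤ := by
  haveI := finite_kaehler k A p
  rw [span_eq_top_iff_local S Ω[S⁄k] (dx k n S)]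
  have : (fun i => (1 : ResidueField S) ⊗ₜ[S] dx k n S i) = e k A n p := by
    funext i
    rw [e, g'_eq, dx]
  rw [this]

theorem span_e_eq_top_of
    (h1 : Ideal.span (g' k A n p '' {i : Fin n | (i : ℕ) < r}) = maximalIdeal S)
    (h2 : Submodule.span p.ResidueField
      ((fun i : Fin n => D k p.ResidueField (residue S (g' k A n p i))) ''
        {i : Fin n | r ≤ (i : ℕ)}) = ⊤) :
    Submodule.span p.ResidueField (Set.range (e k A n p)) = ⊤ := by
  set W := Submodule.span p.ResidueField (Set.range (e k A n p)) with hW
  -- the kernel lies in W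
  have hker : LinearMap.ker (KaehlerDifferential.mapBaseChange k S p.ResidueField) ≤ W := by
    refine (ker_mapBaseChange_le k S).trans ?_
    rw [Groth.Agent.H5.JacDim.span_D_eq k S p.ResidueField (maximalIdeal S)
      (fun i : {i : Fin n // (i : ℕ) < r} => g' k A n p i.1) ?_ ?_]
    · apply Submodule.span_mono
      rintro _ ⟨i, rfl⟩
      exact ⟨i.1, rfl⟩
    · rw [← h1]
      congr 1
      ext y
      constructor
      · rintro ⟨i, hi, rfl⟩
        exact ⟨⟨i, hi⟩, rfl⟩
      · rintro ⟨i, rfl⟩
        exact ⟨i.1, i.2, rfl⟩
    · intro x hx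
      exact (residue_eq_zero_iff _).mpr hx
  -- the image of W is everything
  have himg : Submodule.map (KaehlerDifferential.mapBaseChange k S p.ResidueField) W = ⊤ := by
    rw [eq_top_iff, ← h2, hW, Submodule.map_span, Submodule.span_le]
    rintro _ ⟨i, -, rfl⟩
    refine Submodule.subset_span ⟨e k A n p i, ⟨i, rfl⟩, ?_⟩
    exact mapBaseChange_one_tmul_D k S _
  rw [eq_top_iff]
  rintro x -
  have hx : KaehlerDifferential.mapBaseChange k S p.ResidueField x ∈
      Submodule.map (KaehlerDifferential.mapBaseChange k S p.ResidueField) W := by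
    rw [himg]; trivial
  obtain ⟨w, hw, hwx⟩ := hx
  have hxw : x - w ∈ W := hker (by rw [LinearMap.mem_ker, map_sub, hwx, sub_self])
  have := add_mem hxw hw
  rwa [sub_add_cancel] at this

theorem g'_mem (hg : ∀ i : Fin n, (i : ℕ) < r → algebraMap P A (MvPolynomial.X i) ∈ p)
    (i : Fin n) (hi : (i : ℕ) < r) : g' k A n p i ∈ maximalIdeal S :=
  (IsLocalization.AtPrime.to_map_mem_maximal_iff S p _).mpr (hg i hi)

theorem of_etale
    (hn : FlatMor.localDim (PrimeSpectrum A) ⟨p, inferInstance⟩ = (n : WithBot ℕ∞))
    (hr : ringKrullDim S = (r : WithBot ℕ∞))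
    (hg : ∀ i : Fin n, (i : ℕ) < r → algebraMap P A (MvPolynomial.X i) ∈ p)
    [het : Algebra.FormallyEtale P S] :
    Ideal.span (g' k A n p '' {i : Fin n | (i : ℕ) < r}) = maximalIdeal S ∧
      Submodule.span p.ResidueField
        ((fun i : Fin n => D k p.ResidueField (residue S (g' k A n p i))) ''
          {i : Fin n | r ≤ (i : ℕ)}) = ⊤ := by
  haveI : IsNoetherianRing A := Algebra.FiniteType.isNoetherianRing k A
  haveI : IsNoetherianRing S := IsLocalization.isNoetherianRing p.primeCompl _ inferInstance
  haveI hunr : Algebra.FormallyUnramified P S :=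
    (Algebra.FormallyEtale.iff_formallyUnramified_and_formallySmooth.mp het).1
  haveI hsm : Algebra.FormallySmooth P S :=
    (Algebra.FormallyEtale.iff_formallyUnramified_and_formallySmooth.mp het).2
  haveI hFSk : Algebra.FormallySmooth k S := Algebra.FormallySmooth.comp k P S
  -- the classes `e i` span
  have hspan : Submodule.span p.ResidueField (Set.range (e k A n p)) = ⊤ :=
    (span_dx_iff k A n p).mp ((formallyUnramified_iff_span k n S).mp hunr)
  -- dimension of the fibre
  obtain ⟨nd, t, hnd, ht, hnt⟩ := exists_dim_add_trdeg k A n p hn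
  have hndr : nd = r := by
    rw [hnd] at hr
    exact_mod_cast hr
  subst hndr
  have hfr : Module.finrank p.ResidueField (p.ResidueField ⊗[S] Ω[S⁄k]) = n := by
    have h1 := Groth.Agent.H5.EtPoly.finrank_fibre_of_formallySmooth k A p nd hnd
    rw [ht, Cardinal.toNat_natCast, ← hnt] at h1
    rw [← (Groth.Agent.H5.SmTower.e₂ k A p).finrank_eq]
    exact h1
  have hli : LinearIndependent p.ResidueField (e k A n p) :=
    linearIndependent_of_top_le_span_of_card_eq_finrank hspan.ge (by rw [Fintype.card_fin, hfr])
  -- regularity
  haveI hreg : IsRegularLocalRing S :=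
    Groth.Agent.H5.GR.isRegularLocalRing_of_isAdicFormallySmooth k S
      (Groth.Agent.H5.GR.isAdicFormallySmooth_of_formallySmooth k S _)
  have hcot : Module.finrank (ResidueField S) (CotangentSpace S) = nd := by
    have := (IsRegularLocalRing.iff_finrank_cotangentSpace S).mp hreg
    rw [hnd] at this
    exact_mod_cast this
  constructor
  · -- the classes of the `g' i`, `i < r`, in the cotangent space
    let v : {i : Fin n // (i : ℕ) < nd} → CotangentSpace S := fun i =>
      (maximalIdeal S).toCotangent ⟨g' k A n p i.1, g'_mem k A n nd p hg i.1 i.2⟩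
    have hvli : LinearIndependent (ResidueField S) v := by
      apply LinearIndependent.of_comp (δ k S)
      have : (δ k S) ∘ v = (e k A n p) ∘ Subtype.val := by
        funext i
        rfl
      rw [this]
      exact hli.comp _ Subtype.val_injective
    have hvspan : Submodule.span (ResidueField S) (Set.range v) = ⊤ :=
      hvli.span_eq_top_of_card_eq_finrank' (by rw [hcot, card_lt n nd (by omega)])
    have hs : Submodule.span S (Set.range fun i : {i : Fin n // (i : ℕ) < nd} =>
        (⟨g' k A n p i.1, g'_mem k A n nd p hg i.1 i.2⟩ : maximalIdeal S)) = ⊤ := by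
      rw [← IsLocalRing.CotangentSpace.span_image_eq_top_iff, ← Set.range_comp]
      exact hvspan
    have := congrArg (Submodule.map (maximalIdeal S).subtype) hs
    rw [Submodule.map_span, Submodule.map_top, Submodule.range_subtype, ← Set.range_comp] at this
    rw [← this]
    show Submodule.span S _ = Submodule.span S _
    congr 1
    ext y
    constructor
    · rintro ⟨i, hi, rfl⟩
      exact ⟨⟨i, hi⟩, rfl⟩
    · rintro ⟨i, rfl⟩
      exact ⟨i.1, i.2, rfl⟩
  · -- the differentials of the residue classes
    have hπ : Function.Surjective (KaehlerDifferential.mapBaseChange k S p.ResidueField) :=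
      KaehlerDifferential.mapBaseChange_surjective k S _ Ideal.Quotient.mk_surjective
    have h1 : Submodule.map (KaehlerDifferential.mapBaseChange k S p.ResidueField)
        (Submodule.span p.ResidueField (Set.range (e k A n p))) = ⊤ := by
      rw [hspan, Submodule.map_top, LinearMap.range_eq_top.mpr hπ]
    rw [eq_top_iff, ← h1, Submodule.map_span, Submodule.span_le]
    rintro _ ⟨_, ⟨i, rfl⟩, rfl⟩
    rw [e, mapBaseChange_one_tmul_D]
    by_cases hi : (i : ℕ) < nd
    · have : residue S (g' k A n p i) = 0 :=
        (residue_eq_zero_iff _).mpr (g'_mem k A n nd p hg i hi)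
      rw [this, map_zero]
      exact zero_mem _
    · exact Submodule.subset_span ⟨i, not_lt.mp hi, rfl⟩

theorem main5026
    (hn : FlatMor.localDim (PrimeSpectrum A) ⟨p, inferInstance⟩ = (n : WithBot ℕ∞))
    (hr : ringKrullDim (Localization.AtPrime p) = (r : WithBot ℕ∞))
    (hg : ∀ i : Fin n, (i : ℕ) < r → algebraMap (MvPolynomial (Fin n) k) A (MvPolynomial.X i) ∈ p) :
    Algebra.IsEtaleAt (MvPolynomial (Fin n) k) p ↔
      Ideal.span ((fun i : Fin n =>
          algebraMap A (Localization.AtPrime p) (algebraMap (MvPolynomial (Fin n) k) A (MvPolynomial.X i))) ''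
            {i : Fin n | (i : ℕ) < r}) = IsLocalRing.maximalIdeal (Localization.AtPrime p) ∧
        Submodule.span p.ResidueField ((fun i : Fin n =>
          KaehlerDifferential.D k p.ResidueField
            (IsLocalRing.residue (Localization.AtPrime p)
              (algebraMap A (Localization.AtPrime p) (algebraMap (MvPolynomial (Fin n) k) A (MvPolynomial.X i))))) ''
            {i : Fin n | r ≤ (i : ℕ)}) = ⊤ := by
  constructor
  · intro het
    haveI : Algebra.FormallyEtale P S := het
    exact of_etale k A n r p hn hr hg
  · rintro ⟨h1, h2⟩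
    show Algebra.FormallyEtale P S
    rw [formallyEtale_iff_formallyUnramified k A n p hn, formallyUnramified_iff_span k n S,
      span_dx_iff k A n p]
    exact span_e_eq_top_of k A n r p h1 h2

end main

end Groth.Agent.H5.EtPrime
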