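import Mathlib
import Groth.Agent.Lib.Helper5.EtPrime.B
import Groth.Agent.Lib.Helper5.Car.Car3

set_option autoImplicit false
universe u

open TensorProduct IsLocalRing KaehlerDifferential

namespace Groth.Agent.H5.EtPrime

section field
variable (k K : Type u) [Field k] [Field K] [Algebra k K] [Algebra.EssFiniteType k K]

/-- a finitely generated field extension is separable iff `dim Ω ≤ trdeg`. -/
theorem isGeometricallyReduced_iff_finrank_le :
    Algebra.IsGeometricallyReduced k K ↔
      Module.finrank K Ω[K⁄k] ≤ Cardinal.toNat (Algebra.trdeg k K) := by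
  obtain ⟨hΩ, hH, hcar⟩ := Groth.Agent.H5.Car.cartier_H1 (K := k) (L := K)
  rw [← Groth.Agent.H5.GR.formallySmooth_field_iff]
  constructor
  · intro hfs
    haveI : Subsingleton (Algebra.H1Cotangent k K) := hfs.subsingleton_h1Cotangent
    have : Module.finrank K (Algebra.H1Cotangent k K) = 0 := Module.finrank_zero_of_subsingleton
    omega
  · intro hle
    have h0 : Module.finrank K (Algebra.H1Cotangent k K) = 0 := by omega
    refine ⟨Module.Projective.of_free, ?_⟩
    exact Module.finrank_zero_iff.mp h0

theorem finrank_eq_of_isGeometricallyReduced [Algebra.IsGeometricallyReduced k K] :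
    Module.finrank K Ω[K⁄k] = Cardinal.toNat (Algebra.trdeg k K) := by
  obtain ⟨hΩ, hH, hcar⟩ := Groth.Agent.H5.Car.cartier_H1 (K := k) (L := K)
  have hfs : Algebra.FormallySmooth k K :=
    Groth.Agent.H5.GR.formallySmooth_field_iff.mpr inferInstance
  haveI : Subsingleton (Algebra.H1Cotangent k K) := hfs.subsingleton_h1Cotangent
  have : Module.finrank K (Algebra.H1Cotangent k K) = 0 := Module.finrank_zero_of_subsingleton
  omega

end field

theorem card_ge (n r : ℕ) : Fintype.card {i : Fin n // r ≤ (i : ℕ)} = n - min n r := by
  have h1 : Fintype.card {i : Fin n // r ≤ (i : ℕ)} = Fintype.card {i : Fin n // ¬ (i : ℕ) < r} :=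
    Fintype.card_congr (Equiv.subtypeEquivRight (fun i => not_lt.symm))
  rw [h1, Fintype.card_subtype_compl, Fintype.card_fin, Fintype.card_subtype,
    Fin.card_filter_val_lt]

/-- a finite set as the range of a function on `Fin`. -/
theorem exists_fin_range_eq {α : Type*} (s : Set α) (hs : s.Finite) (r : ℕ) (hr : s.ncard = r) :
    ∃ y : Fin r → α, Set.range y = s := by
  classical
  have hc : hs.toFinset.card = r := by rw [← Set.ncard_eq_toFinset_card s hs, hr]
  let e := Finset.equivFinOfCardEq hc
  refine ⟨fun j => (e.symm j).1, ?_⟩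
  ext a
  constructor
  · rintro ⟨j, rfl⟩
    exact hs.mem_toFinset.mp (e.symm j).2
  · intro ha
    refine ⟨e ⟨a, hs.mem_toFinset.mpr ha⟩, ?_⟩
    simp

section main
variable (k A : Type u) [Field k] [CommRing A] [Algebra k A] [Algebra.FiniteType k A] (n r : ℕ)
  (p : Ideal A) [p.IsPrime]

local notation "S" => Localization.AtPrime p

/-- the local dimension hypothesis, unpacked. -/
theorem exists_dim_add_trdeg'
    (hn : FlatMor.localDim (PrimeSpectrum A) ⟨p, inferInstance⟩ = (n : WithBot ℕ∞)) :
    ∃ nd t : ℕ, ringKrullDim (Localization.AtPrime p) = nd ∧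
      Algebra.trdeg k p.ResidueField = t ∧ n = nd + t := by
  haveI : IsNoetherianRing A := Algebra.FiniteType.isNoetherianRing k A
  haveI : IsNoetherianRing (Localization.AtPrime p) :=
    IsLocalization.isNoetherianRing p.primeCompl _ inferInstance
  obtain ⟨nd, hnd⟩ := Groth.Agent.H5.JacDim.exists_nat_ringKrullDim (Localization.AtPrime p)
  obtain ⟨t, ht, -, h⟩ := Groth.Agent.H1.DimFormula.localDim_primeSpectrum (k := k) p
  refine ⟨nd, t, hnd, ht, ?_⟩
  rw [hn, hnd] at h
  exact_mod_cast h

theorem main5027
    (hn : FlatMor.localDim (PrimeSpectrum A) ⟨p, inferInstance⟩ = (n : WithBot ℕ∞))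
    (hr : ringKrullDim (Localization.AtPrime p) = (r : WithBot ℕ∞)) :
    (IsRegularLocalRing (Localization.AtPrime p) ∧
        Algebra.IsGeometricallyReduced k p.ResidueField) ↔
      ∃ g : Fin n → Localization.AtPrime p,
        Ideal.span (g '' {i : Fin n | (i : ℕ) < r}) =
            IsLocalRing.maximalIdeal (Localization.AtPrime p) ∧
          Submodule.span p.ResidueField ((fun i : Fin n =>
            KaehlerDifferential.D k p.ResidueField
              (IsLocalRing.residue (Localization.AtPrime p) (g i))) ''
              {i : Fin n | r ≤ (i : ℕ)}) = ⊤ := by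
  haveI : IsNoetherianRing A := Algebra.FiniteType.isNoetherianRing k A
  haveI : IsNoetherianRing S := IsLocalization.isNoetherianRing p.primeCompl _ inferInstance
  haveI : Algebra.EssFiniteType A S := Algebra.EssFiniteType.of_isLocalization _ p.primeCompl
  haveI : Algebra.EssFiniteType k S := Algebra.EssFiniteType.comp k A _
  haveI : Algebra.EssFiniteType k p.ResidueField := Algebra.EssFiniteType.comp k S _
  obtain ⟨nd, t, hnd, ht, hnt⟩ := exists_dim_add_trdeg' k A n p hn
  have hndr : nd = r := by
    rw [hnd] at hr
    exact_mod_cast hr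
  subst hndr
  have htt : Cardinal.toNat (Algebra.trdeg k p.ResidueField) = t := by
    rw [ht, Cardinal.toNat_natCast]
  constructor
  · rintro ⟨hreg, hgr⟩
    -- generators of the maximal ideal
    have hfg : (maximalIdeal S).FG := (inferInstance : IsNoetherian S S).noetherian _
    have hsf : (maximalIdeal S).spanFinrank = nd := by
      have := hreg.spanFinrank_maximalIdeal
      rw [hnd] at this
      exact_mod_cast this
    obtain ⟨y, hy⟩ := exists_fin_range_eq (Submodule.generators (maximalIdeal S))
      (Submodule.FG.finite_generators hfg) nd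
      ((Submodule.FG.generators_ncard hfg).trans hsf)
    have hyspan : Ideal.span (Set.range y) = maximalIdeal S := by
      rw [hy]
      exact Submodule.span_generators _
    -- a basis of the differentials of the residue field
    have hfr := finrank_eq_of_isGeometricallyReduced k p.ResidueField
    rw [htt] at hfr
    have hft : Module.finrank p.ResidueField
        (Submodule.span p.ResidueField (Set.range (D k p.ResidueField))) = t := by
      rw [KaehlerDifferential.span_range_derivation, finrank_top, hfr]
    have key : ∃ f : Fin t → Ω[p.ResidueField⁄k], (∀ i, f i ∈ Set.range (D k p.ResidueField)) ∧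
        Submodule.span p.ResidueField (Set.range f) = ⊤ := by
      have := Submodule.exists_fun_fin_finrank_span_eq p.ResidueField
        (Set.range (D k p.ResidueField))
      rw [hft] at this
      obtain ⟨f, hf, hfspan, -⟩ := this
      exact ⟨f, hf, hfspan.trans (KaehlerDifferential.span_range_derivation k p.ResidueField)⟩
    obtain ⟨f, hf, hfspan⟩ := key
    choose x hx using hf
    let x' : Fin n → S := fun i =>
      Function.surjInv (IsLocalRing.residue_surjective (R := S))
        (if h : nd ≤ (i : ℕ) then x ⟨(i : ℕ) - nd, by omega⟩ else 0)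
    let g : Fin n → S := fun i => if h : (i : ℕ) < nd then y ⟨i, h⟩ else x' i
    refine ⟨g, ?_, ?_⟩
    · rw [← hyspan]
      congr 1
      ext a
      constructor
      · rintro ⟨i, hi, rfl⟩
        have hi' : (i : ℕ) < nd := hi
        exact ⟨⟨i, hi'⟩, by simp [g, hi']⟩
      · rintro ⟨j, rfl⟩
        refine ⟨⟨j, by omega⟩, j.2, ?_⟩
        simp [g]
    · rw [eq_top_iff, ← hfspan, Submodule.span_le]
      rintro _ ⟨j, rfl⟩
      have hj : (j : ℕ) < t := j.2
      refine Submodule.subset_span ⟨⟨nd + j, by omega⟩, ?_, ?_⟩
      · show nd ≤ nd + (j : ℕ)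
        omega
      · have h1 : ¬ (nd + (j : ℕ) < nd) := by omega
        have h2 : nd ≤ nd + (j : ℕ) := by omega
        simp only [g, x', h1, h2, dite_false, dite_true]
        rw [Function.surjInv_eq (IsLocalRing.residue_surjective (R := S))]
        have hidx : ∀ (h : nd + (j : ℕ) - nd < t), (⟨nd + (j : ℕ) - nd, h⟩ : Fin t) = j :=
          fun h => Fin.ext (by simp)
        rw [hidx, hx j]
  · rintro ⟨g, h1, h2⟩
    constructor
    · apply IsRegularLocalRing.of_spanFinrank_maximalIdeal_le
      rw [hnd, ← h1]
      have hfin : (g '' {i : Fin n | (i : ℕ) < nd}).Finite := Set.toFinite _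
      have hle := Submodule.spanFinrank_span_le_ncard_of_finite (R := S) hfin
      have hle2 : (g '' {i : Fin n | (i : ℕ) < nd}).ncard ≤ nd := by
        refine (Set.ncard_image_le (Set.toFinite _)).trans ?_
        rw [← Nat.card_coe_set_eq, Nat.card_eq_fintype_card]
        exact (card_lt n nd (by omega)).le
      have : (Ideal.span (g '' {i : Fin n | (i : ℕ) < nd})).spanFinrank ≤ nd := hle.trans hle2
      exact_mod_cast this
    · rw [isGeometricallyReduced_iff_finrank_le, htt]
      have himg : ((fun i : Fin n => D k p.ResidueField (residue S (g i))) ''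
          {i : Fin n | nd ≤ (i : ℕ)}) = Set.range (fun i : {i : Fin n // nd ≤ (i : ℕ)} =>
            D k p.ResidueField (residue S (g i.1))) := by
        ext a
        constructor
        · rintro ⟨i, hi, rfl⟩
          exact ⟨⟨i, hi⟩, rfl⟩
        · rintro ⟨i, rfl⟩
          exact ⟨i.1, i.2, rfl⟩
      rw [himg] at h2
      have := finrank_range_le_card (R := p.ResidueField)
        (fun i : {i : Fin n // nd ≤ (i : ℕ)} => D k p.ResidueField (residue S (g i.1)))
      rw [Set.finrank, h2, finrank_top, card_ge] at this
      omega

end main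

end Groth.Agent.H5.EtPrime
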