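import Mathlib
import Groth.Agent.Lib.Helper5.EtPrime.B

set_option autoImplicit false
universe u

open TensorProduct IsLocalRing KaehlerDifferential

namespace Groth.Agent.H5.EtPrime

section main
variable (k A : Type u) [Field k] [CommRing A] [Algebra k A] [Algebra.FiniteType k A] (n : ℕ)
  [Algebra (MvPolynomial (Fin n) k) A] [IsScalarTower k (MvPolynomial (Fin n) k) A]
  (p : Ideal A) [p.IsPrime]

local notation "P" => MvPolynomial (Fin n) k
local notation "S" => Localization.AtPrime p

theorem main5001
    (hn : FlatMor.localDim (PrimeSpectrum A) ⟨p, inferInstance⟩ = (n : WithBot ℕ∞))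
    [Module.Finite k p.ResidueField] [Algebra.IsSeparable k p.ResidueField]
    (hg : ∀ i : Fin n, algebraMap (MvPolynomial (Fin n) k) A (MvPolynomial.X i) ∈ p) :
    Algebra.IsEtaleAt (MvPolynomial (Fin n) k) p ↔
      Ideal.span (Set.range fun i : Fin n =>
        algebraMap A (Localization.AtPrime p) (algebraMap (MvPolynomial (Fin n) k) A (MvPolynomial.X i))) =
        IsLocalRing.maximalIdeal (Localization.AtPrime p) := by
  obtain ⟨nd, t, hnd, ht, hnt⟩ := exists_dim_add_trdeg k A n p hn
  have ht0 : t = 0 := by
    haveI : Algebra.IsAlgebraic k p.ResidueField := Algebra.IsAlgebraic.of_finite k _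
    have h0 : Algebra.trdeg k p.ResidueField = 0 := trdeg_eq_zero
    rw [h0] at ht
    exact_mod_cast ht.symm
  subst ht0
  have hr : ringKrullDim S = (n : WithBot ℕ∞) := by rw [hnd, hnt, add_zero]
  rw [main5026 k A n n p hn hr (fun i _ => hg i)]
  have h1 : {i : Fin n | (i : ℕ) < n} = Set.univ := by
    ext i; simp
  have h2 : {i : Fin n | n ≤ (i : ℕ)} = ∅ := by
    ext i; simp
  rw [h1, h2, Set.image_univ, Set.image_empty, Submodule.span_empty]
  haveI : Algebra.FormallyUnramified k p.ResidueField := Algebra.FormallyUnramified.of_isSeparable k _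
  haveI : Subsingleton Ω[p.ResidueField⁄k] := inferInstance
  constructor
  · exact fun h => h.1
  · exact fun h => ⟨h, Subsingleton.elim _ _⟩

end main

end Groth.Agent.H5.EtPrime
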