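import Mathlib

set_option autoImplicit false
universe u

open TensorProduct IsLocalRing KaehlerDifferential

namespace Groth.Agent.H5.EtPrimeE

/-- in a tower `A → B → S` with `S` formally smooth over `A`, a retraction of
`S ⊗ Ω_{B/A} → Ω_{S/A}` makes `S` formally smooth over `B`. -/
theorem formallySmooth_of_split (A B S : Type u) [CommRing A] [CommRing B] [CommRing S]
    [Algebra A B] [Algebra B S] [Algebra A S] [IsScalarTower A B S]
    [Algebra.FormallySmooth A S]
    (l' : Ω[S⁄A] →ₗ[S] S ⊗[B] Ω[B⁄A])
    (hl' : l' ∘ₗ KaehlerDifferential.mapBaseChange A B S = LinearMap.id) :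
    Algebra.FormallySmooth B S := by
  have hex1 := Algebra.H1Cotangent.exact_map_δ A B S
  have hex2 := Algebra.H1Cotangent.exact_δ_mapBaseChange A B S
  have hex3 := KaehlerDifferential.exact_mapBaseChange_map A B S
  have hsurj : Function.Surjective (KaehlerDifferential.map A B S S) :=
    KaehlerDifferential.map_surjective A B S
  have hinj : Function.Injective (KaehlerDifferential.mapBaseChange A B S) :=
    Function.HasLeftInverse.injective ⟨l', LinearMap.congr_fun hl'⟩
  obtain ⟨-, s, hs⟩ := (hex3.split_tfae'.out 1 0 rfl rfl).mp ⟨hsurj, l', hl'⟩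
  refine ⟨Module.Projective.of_split s (KaehlerDifferential.map A B S S) hs, ?_⟩
  refine ⟨fun x y => ?_⟩
  have h0 : ∀ z : Algebra.H1Cotangent B S, z = 0 := by
    intro z
    have h1 : Algebra.H1Cotangent.δ A B S z = 0 := by
      apply hinj
      rw [map_zero]
      exact (hex2 _).mpr ⟨z, rfl⟩
    obtain ⟨w, rfl⟩ := (hex1 z).mp h1
    have : w = 0 := Subsingleton.elim _ _
    rw [this, map_zero]
  rw [h0 x, h0 y]

section gen
variable (A : Type u) [CommRing A] (r : ℕ) (S : Type u) [CommRing S] [Algebra A S]
  [Algebra (MvPolynomial (Fin r) A) S] [IsScalarTower A (MvPolynomial (Fin r) A) S]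

local notation "P" => MvPolynomial (Fin r) A

/-- the differentials of the coordinate functions. -/
noncomputable def dx (i : Fin r) : Ω[S⁄A] := D A S (algebraMap P S (MvPolynomial.X i))

/-- the basis of `S ⊗ Ω_P`. -/
noncomputable def bP : Module.Basis (Fin r) S (S ⊗[P] Ω[P⁄A]) :=
  (KaehlerDifferential.mvPolynomialBasis A (Fin r)).baseChange S

theorem mapBaseChange_bP (i : Fin r) :
    KaehlerDifferential.mapBaseChange A P S (bP A r S i) = dx A r S i := by
  rw [bP, Module.Basis.baseChange_apply, KaehlerDifferential.mapBaseChange_tmul, one_smul,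
    KaehlerDifferential.mvPolynomialBasis_apply, KaehlerDifferential.map_D, dx]

theorem formallyEtale_iff [Algebra.FormallySmooth A S] :
    Algebra.FormallyEtale P S ↔
      LinearIndependent S (dx A r S) ∧ Submodule.span S (Set.range (dx A r S)) = ⊤ := by
  constructor
  · intro het
    let e : S ⊗[P] Ω[P⁄A] ≃ₗ[S] Ω[S⁄A] :=
      KaehlerDifferential.tensorKaehlerEquivOfFormallyEtale A P S
    let b' : Module.Basis (Fin r) S Ω[S⁄A] := (bP A r S).map e
    have hb' : (b' : Fin r → Ω[S⁄A]) = dx A r S := by
      funext i
      rw [Module.Basis.map_apply]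
      show KaehlerDifferential.mapBaseChange A P S _ = _
      exact mapBaseChange_bP A r S i
    rw [← hb']
    exact ⟨b'.linearIndependent, b'.span_eq⟩
  · rintro ⟨hli, hsp⟩
    let b : Module.Basis (Fin r) S Ω[S⁄A] := Module.Basis.mk hli hsp.ge
    have hb : ∀ i, b i = dx A r S i := fun i => by rw [Module.Basis.mk_apply]
    let l : Ω[S⁄A] →ₗ[S] S ⊗[P] Ω[P⁄A] := b.constr S (fun i => bP A r S i)
    have hl : l ∘ₗ KaehlerDifferential.mapBaseChange A P S = LinearMap.id := by
      apply (bP A r S).ext
      intro i
      rw [LinearMap.comp_apply, mapBaseChange_bP, ← hb, Module.Basis.constr_basis,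
        LinearMap.id_apply]
    haveI hsm : Algebra.FormallySmooth P S := formallySmooth_of_split A P S l hl
    have hsurj : Function.Surjective (KaehlerDifferential.mapBaseChange A P S) := by
      rw [← LinearMap.range_eq_top, eq_top_iff, ← hsp, Submodule.span_le]
      rintro _ ⟨i, rfl⟩
      exact ⟨bP A r S i, mapBaseChange_bP A r S i⟩
    haveI hunr : Algebra.FormallyUnramified P S := by
      rw [Algebra.formallyUnramified_iff]
      refine ⟨fun a b => ?_⟩
      suffices ∀ ω' : Ω[S⁄P], ω' = 0 by rw [this a, this b]
      intro ω'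
      obtain ⟨ω, rfl⟩ := KaehlerDifferential.map_surjective A P S ω'
      obtain ⟨y, rfl⟩ := hsurj ω
      exact (KaehlerDifferential.exact_mapBaseChange_map A P S _).mpr ⟨y, rfl⟩
    exact Algebra.FormallyEtale.iff_formallyUnramified_and_formallySmooth.mpr ⟨hunr, hsm⟩

end gen

theorem main5014 (A C : Type u) [CommRing A] [CommRing C]
    [Algebra A C] [Algebra.Smooth A C] (r : ℕ) [Algebra (MvPolynomial (Fin r) A) C]
    [IsScalarTower A (MvPolynomial (Fin r) A) C] (q : Ideal C) [q.IsPrime] :
    Algebra.IsEtaleAt (MvPolynomial (Fin r) A) q ↔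
      LinearIndependent (Localization.AtPrime q)
          (fun i : Fin r => KaehlerDifferential.D A (Localization.AtPrime q)
            (algebraMap C (Localization.AtPrime q) (algebraMap (MvPolynomial (Fin r) A) C (MvPolynomial.X i)))) ∧
        Submodule.span (Localization.AtPrime q)
          (Set.range fun i : Fin r => KaehlerDifferential.D A (Localization.AtPrime q)
            (algebraMap C (Localization.AtPrime q) (algebraMap (MvPolynomial (Fin r) A) C (MvPolynomial.X i)))) = ⊤ := by
  haveI : Algebra.FormallySmooth A C := Algebra.Smooth.formallySmooth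
  haveI : Algebra.FormallySmooth C (Localization.AtPrime q) :=
    Algebra.FormallySmooth.of_isLocalization q.primeCompl
  haveI : Algebra.FormallySmooth A (Localization.AtPrime q) :=
    Algebra.FormallySmooth.comp A C _
  have heq : (fun i : Fin r => KaehlerDifferential.D A (Localization.AtPrime q)
      (algebraMap C (Localization.AtPrime q)
        (algebraMap (MvPolynomial (Fin r) A) C (MvPolynomial.X i)))) =
      dx A r (Localization.AtPrime q) := by
    funext i
    rw [dx, IsScalarTower.algebraMap_apply (MvPolynomial (Fin r) A) C (Localization.AtPrime q)]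
  rw [heq]
  exact formallyEtale_iff A r (Localization.AtPrime q)

end Groth.Agent.H5.EtPrimeE
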