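import Mathlib
import Groth.Agent.Lib.Helper5.SmGen.A

set_option autoImplicit false
universe u

open TensorProduct IsLocalRing KaehlerDifferential

namespace Groth.Agent.H5.EtPrimeF

section
variable (k A : Type u) [Field k] [CommRing A] [Algebra k A] [Algebra.FiniteType k A]

/-- a geometrically reduced local ring at a minimal prime is formally smooth. -/
theorem formallySmooth_of_minimal (p : Ideal A) [p.IsPrime] (hp : p ∈ minimalPrimes A)
    [Algebra.IsGeometricallyReduced k (Localization.AtPrime p)] :
    Algebra.FormallySmooth k (Localization.AtPrime p) := by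
  haveI : IsReduced (Localization.AtPrime p) := Algebra.isReduced_of_isGeometricallyReduced k
  haveI : Ring.KrullDimLE 0 (Localization.AtPrime p) := Ring.KrullDimLE.of_isLocalization p hp _
  have hfield : IsField (Localization.AtPrime p) := Ring.KrullDimLE.isField_of_isReduced
  have hmax : maximalIdeal (Localization.AtPrime p) = ⊥ :=
    IsLocalRing.isField_iff_maximalIdeal_eq.mp hfield
  have hsurj : Function.Surjective (algebraMap (Localization.AtPrime p) p.ResidueField) :=
    IsLocalRing.residue_surjective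
  have hkerres : RingHom.ker (algebraMap (Localization.AtPrime p) p.ResidueField) = ⊥ := by
    rw [← hmax]
    exact IsLocalRing.ker_residue
  have hinj : Function.Injective (algebraMap (Localization.AtPrime p) p.ResidueField) :=
    (RingHom.injective_iff_ker_eq_bot _).mpr hkerres
  let e : Localization.AtPrime p ≃ₐ[k] p.ResidueField :=
    AlgEquiv.ofBijective (IsScalarTower.toAlgHom k (Localization.AtPrime p) p.ResidueField)
      ⟨hinj, hsurj⟩
  haveI : Algebra.IsGeometricallyReduced k p.ResidueField :=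
    Algebra.IsGeometricallyReduced.of_injective e.symm.toAlgHom e.symm.injective
  haveI : Algebra.FormallySmooth k p.ResidueField :=
    Groth.Agent.H5.GR.formallySmooth_field_iff.mpr inferInstance
  exact Algebra.FormallySmooth.of_equiv e.symm

omit [Algebra.FiniteType k A] [Field k] [Algebra k A] in
/-- a dense open subset of a Noetherian spectrum contains all the minimal primes. -/
theorem mem_of_dense_of_minimal [IsNoetherianRing A] (U : Set (PrimeSpectrum A)) (hU : IsOpen U)
    (hd : Dense U) (p : Ideal A) [hpp : p.IsPrime] (hp : p ∈ minimalPrimes A) :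
    (⟨p, hpp⟩ : PrimeSpectrum A) ∈ U := by
  classical
  have hfin : (minimalPrimes A).Finite := minimalPrimes.finite_of_isNoetherianRing A
  set I : Ideal A := (hfin.toFinset.erase p).inf id with hI
  have hV : IsOpen ((PrimeSpectrum.zeroLocus (I : Set A))ᶜ) :=
    (PrimeSpectrum.isClosed_zeroLocus _).isOpen_compl
  have hmin : ∀ q : Ideal A, q.IsPrime → q ≤ p → q = p := by
    intro q hq hqp
    exact le_antisymm hqp (hp.2 ⟨hq, bot_le⟩ hqp)
  have hpV : (⟨p, hpp⟩ : PrimeSpectrum A) ∈ (PrimeSpectrum.zeroLocus (I : Set A))ᶜ := by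
    intro h
    rw [PrimeSpectrum.mem_zeroLocus, SetLike.coe_subset_coe] at h
    obtain ⟨q, hq, hqp⟩ := (Ideal.IsPrime.inf_le' hpp).mp h
    rw [Finset.mem_erase, Set.Finite.mem_toFinset] at hq
    exact hq.1 (hmin q hq.2.1.1 hqp)
  obtain ⟨x, hxV, hxU⟩ := hd.inter_open_nonempty _ hV ⟨_, hpV⟩
  obtain ⟨q', hq', hq'x⟩ := Ideal.exists_minimalPrimes_le (bot_le : (⊥ : Ideal A) ≤ x.asIdeal)
  have hq'p : q' = p := by
    by_contra hne
    apply hxV
    rw [PrimeSpectrum.mem_zeroLocus, SetLike.coe_subset_coe]
    refine (Ideal.IsPrime.inf_le' x.2).mpr ⟨q', ?_, hq'x⟩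
    rw [Finset.mem_erase, Set.Finite.mem_toFinset]
    exact ⟨hne, hq'⟩
  subst hq'p
  have hsp : (⟨q', hpp⟩ : PrimeSpectrum A) ⤳ x := (PrimeSpectrum.le_iff_specializes _ _).mp hq'x
  exact hsp.mem_open hU hxU

theorem main5012 :
    (∃ U : TopologicalSpace.Opens (PrimeSpectrum A), Dense (U : Set (PrimeSpectrum A)) ∧
        ∀ p ∈ U, Algebra.IsSmoothAt k p.asIdeal) ↔
      ∀ (p : Ideal A) [p.IsPrime], p ∈ minimalPrimes A →
        Algebra.IsGeometricallyReduced k (Localization.AtPrime p) := by
  haveI : IsNoetherianRing A := Algebra.FiniteType.isNoetherianRing k A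
  haveI hFP : Algebra.FinitePresentation k A :=
    Algebra.FinitePresentation.of_finiteType.mp inferInstance
  constructor
  · rintro ⟨U, hUd, hUs⟩ p hpp hp
    have hpU := mem_of_dense_of_minimal A (U : Set (PrimeSpectrum A)) U.2 hUd p hp
    haveI : Algebra.FormallySmooth k (Localization.AtPrime p) := hUs _ hpU
    haveI : IsNoetherianRing (Localization.AtPrime p) :=
      IsLocalization.isNoetherianRing p.primeCompl _ inferInstance
    exact Groth.Agent.H5.SmGen.isGeometricallyReduced_of_formallySmooth_local k _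
  · intro h
    refine ⟨⟨Algebra.smoothLocus k A, Algebra.isOpen_smoothLocus⟩, ?_, fun p hp => hp⟩
    rw [dense_iff_inter_open]
    rintro W hW ⟨x, hxW⟩
    obtain ⟨q', hq', hq'x⟩ := Ideal.exists_minimalPrimes_le (bot_le : (⊥ : Ideal A) ≤ x.asIdeal)
    haveI hq'p : q'.IsPrime := hq'.1.1
    have hsp : (⟨q', hq'p⟩ : PrimeSpectrum A) ⤳ x := (PrimeSpectrum.le_iff_specializes _ _).mp hq'x
    refine ⟨⟨q', hq'p⟩, hsp.mem_open hW hxW, ?_⟩
    haveI := h q' hq'
    exact formallySmooth_of_minimal k A q' hq'

end

end Groth.Agent.H5.EtPrimeF
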